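import Groth.Agent.Lib.AffProp15.Finite
import Groth.Agent.Lib.HopfMod.Avg
import Groth.Agent.Lib.CoalgH23.Dual
import Groth.Agent.Lib.QuotHopf23.Basic
import Mathlib.RingTheory.Flat.Basic

/-!
# Free actions of linearly reductive groups on affine schemes

If the shear map `R ⊗ R → R ⊗ A` is surjective and `A` has an integral, then `R` is projective over the
invariants `R₀` and `R ⊗[R₀] R → R ⊗ A` is bijective.
-/

set_option autoImplicit false
set_option linter.style.haveILetI false
set_option maxSynthPendingDepth 3
set_option synthInstance.maxHeartbeats 400000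
universe u

open TensorProduct HopfRep
open Groth.Agent.AffProp15 (shear)

noncomputable section

namespace Groth.Agent.FreeTors15

variable {k : Type u} [Field k] {A : Type u} [CommRing A] [HopfAlgebra k A]

/-- A normalized right invariant integral. -/
theorem exists_right_integral (hG : IsLinearlyReductive k A) : ∃ l : A →ₗ[k] k, l 1 = 1 ∧
    ∀ y, TensorProduct.rid k A (l.lTensor A (CoalgebraStruct.comul (R := k) y)) = algebraMap k A (l y) := by
  obtain ⟨l, hl1, hl⟩ := HopfMod.exists_integral hG
  let S : A →ₗ[k] A := HopfAlgebraStruct.antipode (R := k)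
  have hSS : ∀ a, S (S a) = a := fun a => by
    rw [← HopfAlgebra.antipodeAlgHom_apply (R := k) (A := A), ← HopfAlgebra.antipodeAlgHom_apply (R := k) (A := A)]
    exact QuotHopf23.antipode_antipode (R := k) a
  refine ⟨l ∘ₗ S, by simp [S, hl1], fun y => ?_⟩
  have h := congrArg S (hl (S y))
  rw [CoalgH23.comul_antipode] at h
  have e : ∀ t : A ⊗[k] A, S (TensorProduct.lid k A (l.rTensor A (TensorProduct.map S S (TensorProduct.comm k A A t)))) =
      TensorProduct.rid k A ((l ∘ₗ S).lTensor A t) := fun t => by
    induction t with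
    | zero => simp
    | add p q hp hq => simp only [map_add, hp, hq]
    | tmul p q => simp [hSS]
  rw [← e, h, Algebra.algebraMap_eq_smul_one, Algebra.algebraMap_eq_smul_one, map_smul]
  simp [S]

variable {R : Type u} [CommRing R] [Algebra k R] [Comod k A R] [GLin.IsCoactAlg k A R]

local notation "δ" => GLin.coactAlgHom k A R

/-- `x ⊗ a ↦ l a • x`. -/
def evR (l : A →ₗ[k] k) : R ⊗[k] A →ₗ[k] R := (TensorProduct.rid k R).toLinearMap ∘ₗ l.lTensor R

@[simp] theorem evR_tmul (l : A →ₗ[k] k) (x : R) (a : A) : evR l (x ⊗ₜ[k] a) = l a • x := by simp [evR]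

theorem evR_mul (l : A →ₗ[k] k) (b : R) (t : R ⊗[k] A) : evR l ((b ⊗ₜ[k] (1 : A)) * t) = b * evR l t := by
  induction t with
  | zero => simp
  | add p q hp hq => simp only [mul_add, map_add, hp, hq]
  | tmul x a => simp

/-- The invariant projection of an integral. -/
def avgE (l : A →ₗ[k] k) : R →ₗ[k] R := evR l ∘ₗ (δ).toLinearMap

theorem avgE_mem {l : A →ₗ[k] k}
    (hl : ∀ y, TensorProduct.rid k A (l.lTensor A (CoalgebraStruct.comul (R := k) y)) = algebraMap k A (l y)) (x : R) :
    avgE l x ∈ GLin.invariants k A R := by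
  rw [GLin.mem_invariants_iff]
  have hco := LinearMap.congr_fun (Comod.coassoc (k := k) (A := A) (V := R)) x
  simp only [LinearMap.comp_apply, LinearEquiv.coe_coe] at hco
  show Comod.coact (k := k) (A := A) (evR l (Comod.coact (k := k) (A := A) x)) =
    evR l (Comod.coact (k := k) (A := A) x) ⊗ₜ[k] (1 : A)
  let Q : R ⊗[k] (A ⊗[k] A) →ₗ[k] R ⊗[k] A := ((TensorProduct.rid k A).toLinearMap ∘ₗ l.lTensor A).lTensor R
  have e1 : ∀ t : R ⊗[k] A, Comod.coact (k := k) (A := A) (evR l t) =
      Q (TensorProduct.assoc k R A A ((Comod.coact (k := k) (A := A)).rTensor A t)) := fun t => by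
    induction t with
    | zero => simp
    | add p q hp hq => simp only [map_add, hp, hq]
    | tmul y a =>
      simp only [evR_tmul, map_smul, LinearMap.rTensor_tmul]
      generalize Comod.coact (k := k) (A := A) y = s
      induction s with
      | zero => simp
      | add p q hp hq => simp only [smul_add, TensorProduct.add_tmul, map_add, hp, hq]
      | tmul z b => simp [Q, TensorProduct.tmul_smul]
  have e2 : ∀ t : R ⊗[k] A, Q ((CoalgebraStruct.comul (R := k)).lTensor R t) = evR l t ⊗ₜ[k] (1 : A) := fun t => by
    induction t with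
    | zero => simp
    | add p q hp hq => simp only [map_add, TensorProduct.add_tmul, hp, hq]
    | tmul y a =>
      simp only [Q, LinearMap.lTensor_tmul, LinearMap.comp_apply, LinearEquiv.coe_coe, evR_tmul, hl]
      rw [Algebra.algebraMap_eq_smul_one, TensorProduct.smul_tmul]
  rw [e1, hco, e2]

theorem avgE_mul {c : R} (hc : c ∈ GLin.invariants k A R) (l : A →ₗ[k] k) (x : R) :
    avgE l (c * x) = c * avgE l x := by
  show evR l (δ (c * x)) = c * evR l (δ x)
  rw [map_mul, GLin.coactAlgHom_apply k A R c, (GLin.mem_invariants_iff k A R c).1 hc, evR_mul]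

/-- The averaging step: `n ⊗ a ↦ (1 ⊗ S a) * δ n`. -/
def untwist : R ⊗[k] A →ₗ[k] R ⊗[k] A :=
  TensorProduct.lift (LinearMap.mk₂ k (fun n a => ((1 : R) ⊗ₜ[k] HopfAlgebraStruct.antipode (R := k) a) * δ n)
    (fun _ _ _ => by rw [map_add, mul_add]) (fun c n a => by rw [map_smul, mul_smul_comm])
    (fun _ _ _ => by rw [map_add, TensorProduct.tmul_add, add_mul])
    (fun c n a => by rw [map_smul, TensorProduct.tmul_smul, smul_mul_assoc]))

theorem untwist_coact (n : R) : untwist (δ n) = n ⊗ₜ[k] (1 : A) := by
  have hco := LinearMap.congr_fun (Comod.coassoc (k := k) (A := A) (V := R)) n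
  simp only [LinearMap.comp_apply, LinearEquiv.coe_coe] at hco
  let M : R ⊗[k] (A ⊗[k] A) →ₗ[k] R ⊗[k] A :=
    (LinearMap.mul' k A ∘ₗ (HopfAlgebraStruct.antipode (R := k)).lTensor A).lTensor R
  have e1 : ∀ t : R ⊗[k] A, untwist t = M (TensorProduct.assoc k R A A ((Comod.coact (k := k) (A := A)).rTensor A t)) :=
    fun t => by
      induction t with
      | zero => simp
      | add p q hp hq => simp only [map_add, hp, hq]
      | tmul y a =>
        simp only [untwist, TensorProduct.lift.tmul, LinearMap.mk₂_apply, LinearMap.rTensor_tmul,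
          GLin.coactAlgHom_apply]
        generalize Comod.coact (k := k) (A := A) y = s
        induction s with
        | zero => simp
        | add p q hp hq => simp only [mul_add, TensorProduct.add_tmul, map_add, hp, hq]
        | tmul z b => simp [M, mul_comm]
  have e2 : ∀ t : R ⊗[k] A, M ((CoalgebraStruct.comul (R := k)).lTensor R t) =
      TensorProduct.rid k R ((CoalgebraStruct.counit (R := k)).lTensor R t) ⊗ₜ[k] (1 : A) := fun t => by
    induction t with
    | zero => simp
    | add p q hp hq => simp only [map_add, TensorProduct.add_tmul, hp, hq]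
    | tmul y a =>
      simp only [M, LinearMap.lTensor_tmul, LinearMap.comp_apply, HopfAlgebra.mul_antipode_lTensor_comul_apply,
        TensorProduct.rid_tmul, Algebra.algebraMap_eq_smul_one]
      rw [TensorProduct.smul_tmul]
  have hc := LinearMap.congr_fun (Comod.counit_comp (k := k) (A := A) (V := R)) n
  rw [GLin.coactAlgHom_apply, e1, hco, e2]
  congr 1
  have h2 := congrArg (TensorProduct.rid k R) hc
  simpa using h2

variable (R₀ : Type u) [CommRing R₀] [Algebra k R₀] [Algebra R₀ R] [IsScalarTower k R₀ R]

omit [Algebra k R₀] [IsScalarTower k R₀ R] in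
theorem smul_coact (hinv : ∀ c : R₀, algebraMap R₀ R c ∈ GLin.invariants k A R) (c : R₀) (x : R) :
    δ (c • x) = (algebraMap R₀ R c ⊗ₜ[k] (1 : A)) * δ x := by
  rw [Algebra.smul_def, map_mul, GLin.coactAlgHom_apply k A R (algebraMap R₀ R c),
    (GLin.mem_invariants_iff k A R _).1 (hinv c)]

/-- A free action of a linearly reductive group: flatness and the Galois map. -/
theorem flat_and_injective (hG : IsLinearlyReductive k A) (hinj : Function.Injective (algebraMap R₀ R))
    (hrange : (IsScalarTower.toAlgHom k R₀ R).range = GLin.invariants k A R)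
    (hsh : Function.Surjective (shear k A R)) :
    Module.Flat R₀ R ∧ ∀ (β : R ⊗[R₀] R →ₗ[k] R ⊗[k] A),
      (∀ a b, β (a ⊗ₜ[R₀] b) = shear k A R (a ⊗ₜ[k] b)) → Function.Bijective β := by
  obtain ⟨l, hl1, hl⟩ := exists_right_integral hG
  have hinv : ∀ c : R₀, algebraMap R₀ R c ∈ GLin.invariants k A R := fun c => hrange ▸ ⟨c, rfl⟩
  let e := AlgEquiv.ofInjective (IsScalarTower.toAlgHom k R₀ R) (by exact hinj)
  let ι₀ : GLin.invariants k A R →ₗ[k] R₀ :=
    e.symm.toLinearMap ∘ₗ (Subalgebra.equivOfEq _ _ hrange.symm).toLinearMap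
  let E₀ : R →ₗ[k] R₀ := ι₀ ∘ₗ (avgE l).codRestrict (Subalgebra.toSubmodule (GLin.invariants k A R)) (avgE_mem hl)
  have hE₀ : ∀ x, algebraMap R₀ R (E₀ x) = avgE l x := fun x =>
    congrArg Subtype.val (e.apply_symm_apply _)
  have hE₀mul : ∀ (c : R₀) (x : R), E₀ (c • x) = c * E₀ x := fun c x => hinj (by
    rw [map_mul, hE₀, hE₀, Algebra.smul_def, avgE_mul (hinv c)])
  obtain ⟨g, hg⟩ := ((shear k A R).toLinearMap).exists_rightInverse_of_surjective (LinearMap.range_eq_top.2 hsh)
  let g' : A →ₗ[k] R ⊗[k] R := g ∘ₗ (TensorProduct.mk k R A 1) ∘ₗ HopfAlgebraStruct.antipode (R := k)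
  have hg' : ∀ a, shear k A R (g' a) = (1 : R) ⊗ₜ[k] HopfAlgebraStruct.antipode (R := k) a := fun a =>
    LinearMap.congr_fun hg _
  let mulr : R →ₗ[k] (R →ₗ[k] R) := LinearMap.mul k R
  let Ψ : R ⊗[k] A →ₗ[k] R₀ ⊗[k] R := TensorProduct.lift (LinearMap.mk₂ k
    (fun n a => TensorProduct.map (E₀ ∘ₗ mulr n) LinearMap.id (g' a))
    (fun _ _ _ => by rw [map_add, LinearMap.comp_add, TensorProduct.map_add_left, LinearMap.add_apply])
    (fun c n a => by rw [map_smul, LinearMap.comp_smul, TensorProduct.map_smul_left, LinearMap.smul_apply])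
    (fun _ _ _ => by rw [map_add, map_add]) (fun c n a => by rw [map_smul, map_smul]))
  have hΨ : ∀ n a, Ψ (n ⊗ₜ a) = TensorProduct.map (E₀ ∘ₗ mulr n) LinearMap.id (g' a) := fun n a => rfl
  let μ : R₀ ⊗[k] R →ₗ[k] R := TensorProduct.lift ((Algebra.lsmul k k R).toLinearMap)
  have hμ : ∀ c x, μ (c ⊗ₜ x) = c • x := fun c x => rfl
  have hkey : ∀ (n : R) (t : R ⊗[k] R), μ (TensorProduct.map (E₀ ∘ₗ mulr n) LinearMap.id t) =
      evR l (shear k A R t * δ n) := fun n t => by
    induction t with
    | zero => simp
    | add p q hp hq => simp only [map_add, add_mul, hp, hq]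
    | tmul r s =>
      rw [TensorProduct.map_tmul, hμ, Algebra.smul_def]
      simp only [LinearMap.comp_apply, LinearMap.id_apply, hE₀, shear, Algebra.TensorProduct.lift_tmul,
        Algebra.TensorProduct.includeLeft_apply, mulr, LinearMap.mul_apply']
      show evR l (δ (n * r)) * s = evR l (δ r * s ⊗ₜ[k] (1 : A) * δ n)
      rw [map_mul, mul_comm (δ r) (s ⊗ₜ[k] (1 : A)), mul_assoc, evR_mul, mul_comm (δ n), mul_comm]
  have hμΨ : ∀ n : R, μ (Ψ (δ n)) = n := fun n => by
    have e : ∀ t, μ (Ψ t) = evR l (untwist t) := fun t => by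
      induction t with
      | zero => simp
      | add p q hp hq => simp only [map_add, hp, hq]
      | tmul y a =>
        rw [hΨ, hkey, hg']
        rfl
    rw [e, untwist_coact, evR_tmul, hl1, one_smul]
  have hΨsmul : ∀ (c : R₀) (t : R ⊗[k] A), Ψ ((algebraMap R₀ R c ⊗ₜ[k] (1 : A)) * t) = c • Ψ t := fun c t => by
    induction t with
    | zero => simp
    | add p q hp hq => simp only [mul_add, map_add, smul_add, hp, hq]
    | tmul y a =>
      rw [Algebra.TensorProduct.tmul_mul_tmul, one_mul, hΨ, hΨ]
      generalize g' a = z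
      induction z with
      | zero => simp
      | add p q hp hq => simp only [map_add, smul_add, hp, hq]
      | tmul r s =>
        rw [TensorProduct.map_tmul, TensorProduct.map_tmul, TensorProduct.smul_tmul']
        congr 1
        simp only [LinearMap.comp_apply, mulr, LinearMap.mul_apply', smul_eq_mul]
        rw [mul_assoc, ← Algebra.smul_def, hE₀mul]
  refine ⟨?_, fun β hβ => ⟨?_, fun y => ?_⟩⟩
  · let Φ : R →ₗ[R₀] R₀ ⊗[k] R :=
      { toFun := fun n => Ψ (δ n)
        map_add' := fun p q => by rw [map_add, map_add]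
        map_smul' := fun c n => by rw [smul_coact R₀ hinv, hΨsmul, RingHom.id_apply] }
    let μ' : R₀ ⊗[k] R →ₗ[R₀] R :=
      { toFun := μ
        map_add' := μ.map_add
        map_smul' := fun c t => by
          simp only [RingHom.id_apply]
          induction t with
          | zero => simp
          | add p q hp hq => simp only [smul_add, map_add, hp, hq]
          | tmul d x => rw [TensorProduct.smul_tmul', hμ, hμ, smul_eq_mul, mul_smul] }
    exact Module.Flat.of_retract Φ μ' (LinearMap.ext hμΨ)
  · let U2 : (R ⊗[k] A) ⊗[k] A →ₗ[k] R ⊗[R₀] R := TensorProduct.lift (LinearMap.mk₂ k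
      (fun y a => TensorProduct.lift (LinearMap.mk₂ k (fun r s => s ⊗ₜ[R₀] evR l (δ r * y))
        (fun _ _ _ => by rw [map_add, add_mul, map_add, TensorProduct.tmul_add])
        (fun c r s => by rw [map_smul, smul_mul_assoc, map_smul, TensorProduct.tmul_smul])
        (fun _ _ _ => by rw [TensorProduct.add_tmul])
        (fun c r s => by rw [TensorProduct.smul_tmul'])) (g' a))
      (fun y y' a => by
        generalize g' a = z
        induction z with
        | zero => simp
        | add p q hp hq => simp only [map_add, hp, hq]; abel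
        | tmul r s => simp [mul_add, TensorProduct.tmul_add])
      (fun c y a => by
        generalize g' a = z
        induction z with
        | zero => simp
        | add p q hp hq => simp only [map_add, smul_add, hp, hq]
        | tmul r s => simp [mul_smul_comm, TensorProduct.tmul_smul])
      (fun y a a' => by rw [map_add, map_add]) (fun c y a => by rw [map_smul, map_smul]))
    let U : R ⊗[k] A →ₗ[k] R ⊗[R₀] R := U2 ∘ₗ (TensorProduct.assoc k R A A).symm.toLinearMap ∘ₗ
      (CoalgebraStruct.comul (R := k)).lTensor R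
    have hU : ∀ z, U (β z) = z := fun z => by
      induction z with
      | zero => simp
      | add p q hp hq => simp only [map_add, hp, hq]
      | tmul a b =>
        rw [hβ]
        have hsb : shear k A R (a ⊗ₜ[k] b) = (b ⊗ₜ[k] (1 : A)) * δ a := by
          simp [shear, mul_comm]
        rw [hsb]
        have hco := LinearMap.congr_fun (Comod.coassoc (k := k) (A := A) (V := R)) a
        simp only [LinearMap.comp_apply, LinearEquiv.coe_coe] at hco
        rw [← LinearEquiv.eq_symm_apply] at hco
        have e1 : ∀ t : R ⊗[k] A, (TensorProduct.assoc k R A A).symm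
            ((CoalgebraStruct.comul (R := k)).lTensor R ((b ⊗ₜ[k] (1 : A)) * t)) =
            (LinearMap.mulLeft k (b ⊗ₜ[k] (1 : A))).rTensor A
              ((TensorProduct.assoc k R A A).symm ((CoalgebraStruct.comul (R := k)).lTensor R t)) := fun t => by
          induction t with
          | zero => simp
          | add p q hp hq => simp only [mul_add, map_add, hp, hq]
          | tmul x c =>
            simp only [Algebra.TensorProduct.tmul_mul_tmul, one_mul, LinearMap.lTensor_tmul]
            generalize CoalgebraStruct.comul (R := k) c = w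
            induction w with
            | zero => simp
            | add p q hp hq => simp only [TensorProduct.tmul_add, map_add, hp, hq]
            | tmul c₁ c₂ => simp
        have hUdef : ∀ t, U t = U2 ((TensorProduct.assoc k R A A).symm
            ((CoalgebraStruct.comul (R := k)).lTensor R t)) := fun t => rfl
        rw [hUdef, e1, GLin.coactAlgHom_apply, ← hco]
        have e2 : ∀ t : R ⊗[k] A, U2 ((LinearMap.mulLeft k (b ⊗ₜ[k] (1 : A))).rTensor A
            ((Comod.coact (k := k) (A := A)).rTensor A t)) = μ (Ψ t) ⊗ₜ[R₀] b := fun t => by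
          induction t with
          | zero => simp
          | add p q hp hq => simp only [map_add, TensorProduct.add_tmul, hp, hq]
          | tmul n c =>
            simp only [LinearMap.rTensor_tmul, LinearMap.mulLeft_apply, U2, TensorProduct.lift.tmul,
              LinearMap.mk₂_apply, hΨ]
            generalize g' c = z
            induction z with
            | zero => simp
            | add p q hp hq => simp only [map_add, TensorProduct.add_tmul, hp, hq]
            | tmul r s =>
              simp only [TensorProduct.lift.tmul, LinearMap.mk₂_apply, TensorProduct.map_tmul, LinearMap.id_apply, hμ]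
              rw [TensorProduct.smul_tmul, Algebra.smul_def]
              simp only [LinearMap.comp_apply, hE₀, mulr, LinearMap.mul_apply']
              congr 1
              show evR l (δ r * (b ⊗ₜ[k] (1 : A) * δ n)) = evR l (δ (n * r)) * b
              rw [map_mul (δ) n r, mul_left_comm, evR_mul, mul_comm b, mul_comm (δ r)]
        rw [e2, ← GLin.coactAlgHom_apply, hμΨ]
    exact Function.LeftInverse.injective hU
  · obtain ⟨z, rfl⟩ := hsh y
    induction z with
    | zero => exact ⟨0, by simp⟩
    | add p q hp hq =>
      obtain ⟨u, hu⟩ := hp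
      obtain ⟨v, hv⟩ := hq
      exact ⟨u + v, by simp [hu, hv]⟩
    | tmul a b => exact ⟨a ⊗ₜ b, hβ a b⟩

end Groth.Agent.FreeTors15
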