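import Groth.Agent.Lib.AlgGrpBasic19.FibreIso
import Groth.Agent.Lib.NRGIT21.Stab
import Groth.Agent.Lib.GITQuot.Orbit
import Groth.Agent.Lib.GITQuot.Fppf
import Mathlib.AlgebraicGeometry.Morphisms.Descent
import Mathlib.AlgebraicGeometry.Morphisms.FlatDescent
import Groth.Prelude.Def_GLinSh

/-!
# Trivial stabilisers
-/

set_option autoImplicit false
set_option linter.style.haveILetI false
set_option backward.isDefEq.respectTransparency.types false
universe u

open CategoryTheory Limits MonoidalCategory CartesianMonoidalCategory MonObj AlgebraicGeometry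

noncomputable section

namespace Groth.Agent.FreeTors15

variable {S : Scheme.{u}} {G X : Over S} [GrpObj G]

/-- The shear morphism of a point is a pullback of the universal one. -/
theorem isPullback_psi (a : AlgGrp.Action G X) {P : Over S} (x : P ⟶ X) :
    IsPullback (G ◁ x) (GIT.psi a x) (GIT.psi a (𝟙 X)) (X ◁ x) := by
  refine IsPullback.of_map (Over.forget _) (by ext1 <;> simp [GIT.psi]) ?_
  refine IsPullback.of_bot ?_ ?_ (GITQuot.isPullback_whiskerLeft x X)
  · show IsPullback _ ((GIT.psi a x).left ≫ (snd X P).left) ((GIT.psi a (𝟙 X)).left ≫ (snd X X).left) _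
    rw [← Over.comp_left, ← Over.comp_left, show GIT.psi a x ≫ snd X P = snd G P by simp [GIT.psi],
      show GIT.psi a (𝟙 X) ≫ snd X X = snd G X by simp [GIT.psi]]
    exact GITQuot.isPullback_whiskerLeft x G
  · show (G ◁ x).left ≫ (GIT.psi a (𝟙 X)).left = (GIT.psi a x).left ≫ (X ◁ x).left
    rw [← Over.comp_left, ← Over.comp_left]
    congr 1
    ext1 <;> simp [GIT.psi]

/-- The stabiliser of a point is a pullback of the universal stabiliser. -/
theorem exists_isPullback_stabTo (a : AlgGrp.Action G X) {P : Over S} (x : P ⟶ X) :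
    ∃ m : GLinSh.stab a x ⟶ GLinSh.stab a (𝟙 X),
      IsPullback m (GLinSh.stabTo a x) (GLinSh.stabTo a (𝟙 X)) x.left := by
  have h1 : IsPullback (G ◁ x).left (GIT.psi a x).left (GIT.psi a (𝟙 X)).left (X ◁ x).left :=
    (isPullback_psi a x).map (Over.forget _)
  have h2 := ((IsPullback.of_hasPullback (GIT.psi a x).left (lift x (𝟙 P)).left).flip.paste_vert h1.flip).flip
  have h3 : (lift x (𝟙 P)).left ≫ (X ◁ x).left = x.left ≫ (lift (𝟙 X) (𝟙 X)).left := by
    rw [← Over.comp_left, ← Over.comp_left]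
    congr 1
    ext1 <;> simp
  rw [h3] at h2
  let sq := IsPullback.of_hasPullback (GIT.psi a (𝟙 X)).left (lift (𝟙 X) (𝟙 X)).left
  refine ⟨sq.lift (pullback.fst _ _ ≫ (G ◁ x).left) (GLinSh.stabTo a x ≫ x.left)
    (by rw [Category.assoc, Category.assoc]; exact (Category.assoc _ _ _).symm.trans (h2.w.trans rfl)), ?_⟩
  exact IsPullback.of_bot (by rw [sq.lift_fst]; exact h2.flip) (sq.lift_snd _ _ _).symm sq.flip |>.flip

/-- Sections of an isomorphic stabiliser are trivial. -/
theorem eq_one_of_isIso (a : AlgGrp.Action G X) {P : Over S} (x : P ⟶ X) [IsIso (GLinSh.stabTo a x)]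
    {T : Over S} (p : T ⟶ P) (g : T ⟶ G) (h : lift g (p ≫ x) ≫ a.act = p ≫ x) : g = 1 := by
  have hl : ∀ g' : T ⟶ G, lift g' (p ≫ x) ≫ a.act = p ≫ x → lift g' p ≫ GIT.psi a x = p ≫ lift x (𝟙 P) :=
    fun g' h' => by
      ext1
      · simp [GIT.psi, h']
      · simp [GIT.psi]
  have h1 : lift (1 : T ⟶ G) (p ≫ x) ≫ a.act = p ≫ x := GITQuot.one_act' a _
  let σ := fun (g' : T ⟶ G) (h' : lift g' (p ≫ x) ≫ a.act = p ≫ x) =>
    pullback.lift (f := (GIT.psi a x).left) (g := (lift x (𝟙 P)).left) (lift g' p).left p.left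
      (congrArg CommaMorphism.left (hl g' h'))
  have he : σ g h = σ 1 h1 := by
    refine (cancel_mono (GLinSh.stabTo a x)).1 ?_
    exact (pullback.lift_snd _ _ _).trans (pullback.lift_snd _ _ _).symm
  have := congrArg (· ≫ pullback.fst _ _) he
  simp only [σ, pullback.lift_fst] at this
  simpa using congrArg (· ≫ fst G P) (Over.OverMorphism.ext this : lift g p = lift 1 p)

theorem mono_psi_of_eq_one (a : AlgGrp.Action G X)
    (h : ∀ (T : Over S) (g : T ⟶ G) (y : T ⟶ X), lift g y ≫ a.act = y → g = 1) : Mono (GIT.psi a (𝟙 X)) := by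
  refine ⟨fun {T} u v huv => ?_⟩
  have h1 := congrArg (· ≫ fst X X) huv
  have h2 := congrArg (· ≫ snd X X) huv
  simp only [GIT.psi, Category.assoc, lift_fst, lift_snd, whiskerLeft_id, Category.id_comp, Category.comp_id] at h1 h2
  rw [← lift_comp_fst_snd u, ← lift_comp_fst_snd v, ← h2] at h1 ⊢
  have h3 : lift ((v ≫ fst G X)⁻¹ * (u ≫ fst G X)) (u ≫ snd G X) ≫ a.act = u ≫ snd G X := by
    rw [GITQuot.mul_act' a, h1, ← GITQuot.mul_act' a, inv_mul_cancel, GITQuot.one_act' a]
  rw [inv_mul_eq_one.1 (h T _ _ h3)]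

/-- A pseudo-torsor has trivial stabilisers. -/
theorem isIso_stabTo_of_mono (a : AlgGrp.Action G X) [Mono (GIT.psi a (𝟙 X))] {P : Over S} (x : P ⟶ X) :
    IsIso (GLinSh.stabTo a x) := by
  haveI : Mono (GIT.psi a x) := MorphismProperty.of_isPullback (P := MorphismProperty.monomorphisms _)
    (isPullback_psi a x) ‹_›
  haveI : Mono (GIT.psi a x).left := Over.mono_left_of_mono _
  have hl : lift (1 : P ⟶ G) (𝟙 P) ≫ GIT.psi a x = lift x (𝟙 P) := by
    ext1
    · simp only [GIT.psi, Category.assoc, lift_fst, lift_whiskerLeft_assoc, Category.id_comp]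
      exact GITQuot.one_act' a x
    · simp [GIT.psi]
  haveI : IsSplitEpi (GLinSh.stabTo a x) := IsSplitEpi.mk' ⟨pullback.lift (lift (1 : P ⟶ G) (𝟙 P)).left (𝟙 P.left)
    ((congrArg CommaMorphism.left hl).trans (Category.id_comp _).symm), pullback.lift_snd _ _ _⟩
  haveI : Mono (GLinSh.stabTo a x) :=
    inferInstanceAs (Mono (pullback.snd (GIT.psi a x).left (lift x (𝟙 P)).left))
  exact isIso_of_mono_of_isSplitEpi _

/-- If all geometric stabilisers are trivial, so is the universal one. -/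
theorem isIso_stabTo_id (a : AlgGrp.Action G X) [LocallyOfFiniteType G.hom]
    (h : ∀ (Ω : Type u) [Field Ω] [IsAlgClosed Ω] (P : Over S) (_ : P.left ≅ Spec (CommRingCat.of Ω)) (x : P ⟶ X),
      IsIso (GLinSh.stabTo a x)) : IsIso (GLinSh.stabTo a (𝟙 X)) := by
  haveI := NRGIT21.locallyOfFiniteType_stabTo a (𝟙 X)
  have hl : lift (1 : X ⟶ G) (𝟙 X) ≫ GIT.psi a (𝟙 X) = lift (𝟙 X) (𝟙 X) := by
    ext1
    · simp only [GIT.psi, Category.assoc, lift_fst, lift_whiskerLeft_assoc, Category.id_comp]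
      exact GITQuot.one_act' a _
    · simp [GIT.psi]
  refine AlgGrpBasic19.isIso_of_fibres (GLinSh.stabTo a (𝟙 X)) (pullback.lift (lift (1 : X ⟶ G) (𝟙 X)).left
    (𝟙 X.left) ((congrArg CommaMorphism.left hl).trans (Category.id_comp _).symm)) (pullback.lift_snd _ _ _)
    fun y => ?_
  set f := GLinSh.stabTo a (𝟙 X)
  let κ := X.left.residueField y
  let ι' : CommRingCat.of κ ⟶ CommRingCat.of (AlgebraicClosure κ) :=
    CommRingCat.ofHom (algebraMap κ (AlgebraicClosure κ))
  let P : Over S := Over.mk ((Spec.map ι' ≫ X.left.fromSpecResidueField y) ≫ X.hom)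
  let x : P ⟶ X := Over.homMk (Spec.map ι' ≫ X.left.fromSpecResidueField y) rfl
  obtain ⟨m, sq⟩ := exists_isPullback_stabTo a x
  haveI := h (AlgebraicClosure κ) P (Iso.refl _) x
  have sq' : IsPullback m (GLinSh.stabTo a x) f (Spec.map ι' ≫ X.left.fromSpecResidueField y) := sq
  have hfib : IsPullback (f.fiberι y) (f.fiberToSpecResidueField y) f (X.left.fromSpecResidueField y) :=
    IsPullback.of_hasPullback _ _
  let l := hfib.lift m (GLinSh.stabTo a x ≫ Spec.map ι') (by rw [sq'.w, Category.assoc])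
  have sq2 : IsPullback l (GLinSh.stabTo a x) (f.fiberToSpecResidueField y) (Spec.map ι') :=
    IsPullback.of_right (by rw [hfib.lift_fst]; exact sq') (hfib.lift_snd _ _ _) hfib
  haveI : Surjective (Spec.map ι') := inferInstance
  haveI : Flat (Spec.map ι') := inferInstance
  haveI : QuasiCompact (Spec.map ι') := quasiCompact_iff_compactSpace _ |>.2 inferInstance
  exact MorphismProperty.of_isPullback_of_descendsAlong (P := MorphismProperty.isomorphisms Scheme.{u})
    (Q := @Surjective ⊓ @Flat ⊓ @QuasiCompact) sq2.flip ⟨⟨inferInstance, inferInstance⟩, inferInstance⟩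
    (MorphismProperty.isomorphisms.infer_property _)

end Groth.Agent.FreeTors15
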