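import Groth.Agent.Lib.FreeTors15.Alg
import Groth.Agent.Lib.FreeTors15.Stab
import Groth.Agent.Lib.AffProp15.Scheme
import Groth.Agent.Lib.AffAct15.Spec
import Groth.Agent.Lib.NRQ21.Restrict
import Groth.Agent.Lib.GModComod21.Semisimple
import Mathlib.Algebra.Category.Ring.Epi

/-!
# Free actions with an affine geometric quotient are torsors
-/

set_option autoImplicit false
set_option linter.style.haveILetI false
set_option backward.isDefEq.respectTransparency.types false
set_option maxSynthPendingDepth 3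
set_option synthInstance.maxHeartbeats 400000
universe u

open CategoryTheory Limits MonoidalCategory CartesianMonoidalCategory MonObj AlgebraicGeometry
open TopologicalSpace (Opens)
open scoped TensorProduct
open CoactBr (sp pt)
open Groth.Agent.AffAct15 (pair IsModel fn fn_bijective appTop_fn mem_invariants_iff)
open Groth.Agent.GITQuot (resT resT_bijective)

noncomputable section

namespace Groth.Agent.FreeTors15

variable {k : Type u} [Field k] [CharZero k] {G X Y : Over (Spec (CommRingCat.of k))} [GrpObj G] [IsAffine G.left]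
  {A : Type u} [CommRing A] [HopfAlgebra k A] [Algebra.FiniteType k A]
  (eG : sp k A ⟶ G) [IsMonHom eG] [IsIso eG] (hG : HopfRep.IsLinearlyReductive k A)

include eG hG in
/-- The affine piece. -/
theorem torsor_affine (a : AlgGrp.Action G X) (φ : X ⟶ Y) [IsAffine X.left] [IsAffine Y.left]
    [LocallyOfFiniteType X.hom] (hinv : GIT.IsInvariant a φ) (hinj : Function.Injective φ.left.appTop)
    (hrange : Set.range φ.left.appTop = {f : Γ(X.left, ⊤) | a.act.left.appTop f = (snd G X).left.appTop f})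
    (hfree : ∀ (T : Over (Spec (CommRingCat.of k))) (g : T ⟶ G) (y : T ⟶ X), lift g y ≫ a.act = y → g = 1) :
    Flat φ.left ∧ IsPullback a.act (snd G X) φ φ := by
  obtain ⟨R, _, _, j, _⟩ := AffAct15.exists_affModel X
  obtain ⟨R₀, _, _, jY, _⟩ := AffAct15.exists_affModel Y
  haveI : IsIso j.left := inferInstanceAs (IsIso ((Over.forget _).map j))
  haveI : IsIso jY.left := inferInstanceAs (IsIso ((Over.forget _).map jY))
  haveI : Algebra.FiniteType k R := by
    have h : LocallyOfFiniteType (sp k R).hom := by rw [← Over.w j]; infer_instance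
    exact RingHom.finiteType_algebraMap.1 ((HasRingHomProperty.Spec_iff (P := @LocallyOfFiniteType)).1 h)
  obtain ⟨hC, hm, hj⟩ := AffAct15.exists_model eG j a
  letI := hC
  haveI := hm
  haveI : IsIso j.left.appTop := inferInstanceAs (IsIso (j.left.app ⊤))
  obtain ⟨ψ, hψ⟩ := AffAct15.exists_pt (j ≫ φ ≫ inv jY)
  have hψφ : pt ψ ≫ jY = j ≫ φ := by rw [hψ]; simp
  letI : Algebra R₀ R := ψ.toRingHom.toAlgebra
  haveI : IsScalarTower k R₀ R := IsScalarTower.of_algebraMap_eq fun c => (ψ.commutes c).symm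
  have hfn : ∀ s, φ.left.appTop (fn jY s) = fn j (ψ s) := fun s => by
    refine (ConcreteCategory.bijective_of_isIso j.left.appTop).1 ?_
    have h1 := appTop_fn (j := j) (AlgHom.id k R) (ψ s)
    rw [AffAct15.pt_id, Category.id_comp] at h1
    rw [h1, ← CommRingCat.comp_apply, ← Scheme.Hom.comp_appTop, ← Over.comp_left, ← hψφ, appTop_fn]
    rfl
  have hψi : Function.Injective ψ := fun s s' h => fn_bijective (j := jY).1 (hinj (by rw [hfn, hfn, h]))
  have hψr : (IsScalarTower.toAlgHom k R₀ R).range = GLin.invariants k A R := by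
    refine le_antisymm ?_ fun r hr => ?_
    · rintro _ ⟨s, rfl⟩
      exact (mem_invariants_iff hj _).2 (hrange.le ⟨fn jY s, hfn s⟩)
    · obtain ⟨t, ht⟩ := hrange.ge ((mem_invariants_iff hj r).1 hr)
      obtain ⟨s, rfl⟩ := (fn_bijective (j := jY)).2 t
      exact ⟨s, (fn_bijective (j := j)).1 (by rw [← ht, hfn]; rfl)⟩
  have hfix : AffProp15.NoFixed k (AlgebraicClosure k) A R :=
    AffProp15.noFixed eG j a hj a (𝟙 X) (by simp) fun y g h x => by
      have h1 := hfree _ _ _ h
      rw [inv_eq_one] at h1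
      have h2 : pt g = (1 : sp k _ ⟶ sp k A) := by
        rw [← cancel_mono eG, h1, MonObj.one_comp]
      rw [CoactBr.one_eq_pt] at h2
      exact ⟨algebraMap k (AlgebraicClosure k) (CoalgebraStruct.counit (R := k) x), by
        rw [CoactBr.pt_injective h2]
        simp [LaurentPolynomial.algebraMap_apply, Bialgebra.counitAlgHom_apply, IsScalarTower.algebraMap_apply k
          (AlgebraicClosure k) (LaurentPolynomial (AlgebraicClosure k))]⟩
  let sh : R ⊗[k] R →ₐ[k] R ⊗[k] A := AffProp15.shear k A R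
  let iR : R →ₐ[k] R ⊗[k] A := Algebra.TensorProduct.includeLeft
  let iA : A →ₐ[k] R ⊗[k] A := Algebra.TensorProduct.includeRight
  have hdist : ∀ {K : Type u} [CommRing K] [Algebra k K] (q q' : R ⊗[k] A →ₐ[k] K),
      q.comp iR = q'.comp iR → q.comp iA = q'.comp iA → q = q' := fun q q' h1 h2 =>
    Algebra.TensorProduct.ext h1 h2
  have hpair : ∀ {K : Type u} [CommRing K] [Algebra k K] (q : R ⊗[k] A →ₐ[k] K), pair (q.comp iR) (q.comp iA) = q :=
    fun q => Algebra.TensorProduct.ext' fun s t => by simp [iR, iA, ← map_mul]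
  have hepi : Epi (CommRingCat.ofHom sh.toRingHom) := ⟨fun {K} q q' hqq => by
    have hk : ∀ c : k, q.hom (algebraMap k (R ⊗[k] A) c) = q'.hom (algebraMap k (R ⊗[k] A) c) := fun c => by
      rw [← sh.commutes c]; exact ConcreteCategory.congr_hom hqq _
    letI : Algebra k K := (q.hom.comp (algebraMap k (R ⊗[k] A))).toAlgebra
    let Q : R ⊗[k] A →ₐ[k] K := { q.hom with commutes' := fun c => rfl }
    let Q' : R ⊗[k] A →ₐ[k] K := { q'.hom with commutes' := fun c => (hk c).symm }
    have hQ : Q.comp sh = Q'.comp sh := AlgHom.ext fun t => ConcreteCategory.congr_hom hqq t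
    have hsR : sh.comp Algebra.TensorProduct.includeRight = iR := AlgHom.ext fun r => by
      simp [sh, AffProp15.shear, iR]
    have hsδ : sh.comp Algebra.TensorProduct.includeLeft = GLin.coactAlgHom k A R := AlgHom.ext fun r => by
      simp [sh, AffProp15.shear, ← Algebra.TensorProduct.one_def]
    have e1 : Q.comp iR = Q'.comp iR := by rw [← hsR, ← AlgHom.comp_assoc, hQ, AlgHom.comp_assoc]
    have e2 : Q.comp (GLin.coactAlgHom k A R) = Q'.comp (GLin.coactAlgHom k A R) := by
      rw [← hsδ, ← AlgHom.comp_assoc, hQ, AlgHom.comp_assoc]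
    have hm1 := hj K (Q.comp iR) (Q.comp iA)
    have hm2 := hj K (Q'.comp iR) (Q'.comp iA)
    rw [hpair] at hm1 hm2
    rw [e2, ← hm2, ← e1] at hm1
    have hm3 := congrArg (fun t => lift (pt (Q'.comp iA) ≫ eG) t ≫ a.act) hm1
    simp only [← GITQuot.mul_act' a, mul_inv_cancel, GITQuot.one_act' a] at hm3
    have h4 := hfree _ _ _ hm3
    rw [mul_inv_eq_one, cancel_mono eG] at h4
    exact CommRingCat.hom_ext (congrArg AlgHom.toRingHom (hdist Q Q' e1 (CoactBr.pt_injective h4).symm))⟩
  have hsh : Function.Surjective sh :=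
    (RingHom.surjective_iff_epi_and_finite (f := CommRingCat.ofHom sh.toRingHom)).2
      ⟨hepi, AffProp15.finite_shear (AlgebraicClosure k) hG hfix⟩
  obtain ⟨hflat, hbij⟩ := flat_and_injective R₀ hG hψi hψr hsh
  constructor
  · have e : φ.left = inv j.left ≫ (pt ψ).left ≫ jY.left := by
      rw [← Over.comp_left, hψφ, Over.comp_left, IsIso.inv_hom_id_assoc]
    haveI : Flat (pt ψ).left := by
      rw [CoactBr.pt_left]
      show Flat (Spec.map (CommRingCat.ofHom (algebraMap R₀ R)))
      exact (HasRingHomProperty.Spec_iff (P := @Flat)).2 (RingHom.flat_algebraMap_iff.2 hflat)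
    rw [e]
    infer_instance
  · let δ' : R →ₐ[k] R ⊗[k] A := GLin.coactAlgHom k A R
    have hδ : ∀ c : R₀, δ' (ψ c) = ψ c ⊗ₜ[k] (1 : A) := fun c => by
      rw [GLin.coactAlgHom_apply]
      exact (GLin.mem_invariants_iff k A R _).1 (hψr ▸ ⟨c, rfl⟩)
    let βm : R ⊗[R₀] R →+* R ⊗[k] A :=
      (Algebra.TensorProduct.productMap
        ({ δ'.toRingHom with commutes' := fun c => (hδ c).trans rfl } : R →ₐ[R₀] R ⊗[k] A)
        ({ iR.toRingHom with commutes' := fun c => rfl } : R →ₐ[R₀] R ⊗[k] A)).toRingHom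
    have hβm : ∀ p q : R, βm (p ⊗ₜ[R₀] q) = sh (p ⊗ₜ[k] q) := fun p q => by
      have e1 : sh (p ⊗ₜ[k] q) = δ' p * iR q := by simp [sh, AffProp15.shear, δ', iR]
      rw [e1]
      simp [βm]
    let βl : R ⊗[R₀] R →ₗ[k] R ⊗[k] A :=
      { toFun := βm
        map_add' := map_add βm
        map_smul' := fun c t => by
          simp only [RingHom.id_apply, Algebra.smul_def, map_mul]
          congr 1
          rw [Algebra.TensorProduct.algebraMap_apply, hβm, ← Algebra.TensorProduct.algebraMap_apply, sh.commutes] }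
    let eβ : R ⊗[R₀] R ≃+* R ⊗[k] A := RingEquiv.ofBijective βm (hbij βl hβm)
    have hpo : IsPushout (CommRingCat.ofHom ψ.toRingHom) (CommRingCat.ofHom ψ.toRingHom)
        (CommRingCat.ofHom δ'.toRingHom) (CommRingCat.ofHom iR.toRingHom) := by
      refine (CommRingCat.isPushout_tensorProduct R₀ R R).of_iso (Iso.refl _) (Iso.refl _) (Iso.refl _)
        eβ.toCommRingCatIso (by simp; rfl) (by simp; rfl) ?_ ?_
      · ext r
        show βm (r ⊗ₜ[R₀] 1) = δ' r
        rw [hβm]
        simp [sh, AffProp15.shear, δ', ← Algebra.TensorProduct.one_def]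
      · ext r
        show βm (1 ⊗ₜ[R₀] r) = iR r
        rw [hβm]
        simp [sh, AffProp15.shear, iR, GLin.IsCoactAlg.coact_one (k := k), ← Algebra.TensorProduct.one_def]
    have sq : IsPullback (pt δ') (pt iR) (pt ψ) (pt ψ) := by
      refine IsPullback.of_map (Over.forget _) ?_ ?_
      · rw [← CoactBr.pt_comp, ← CoactBr.pt_comp]
        congr 1
        exact AlgHom.ext hδ
      · show IsPullback (pt δ').left (pt iR).left (pt ψ).left (pt ψ).left
        simp only [CoactBr.pt_left]
        exact isPullback_SpecMap_of_isPushout _ _ _ _ hpo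
    -- coordinates on `G ⊗ X`
    let θ : sp k (R ⊗[k] A) ⟶ G ⊗ X := lift (pt iA ≫ eG)⁻¹ (pt iR ≫ j)
    haveI : IsAffine (G ⊗ X).left := inferInstanceAs (IsAffine (pullback G.hom X.hom))
    obtain ⟨K', _, _, jK, _⟩ := AffAct15.exists_affModel (G ⊗ X)
    obtain ⟨x, hx⟩ := AffAct15.exists_pt (jK ≫ snd G X ≫ inv j)
    obtain ⟨g, hg⟩ := AffAct15.exists_pt ((jK ≫ fst G X)⁻¹ ≫ inv eG)
    let κ : G ⊗ X ⟶ sp k (R ⊗[k] A) := inv jK ≫ pt (pair x g)
    have hκ : κ ≫ θ = 𝟙 _ := by
      rw [Category.assoc, IsIso.inv_comp_eq, Category.comp_id]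
      simp only [θ, comp_lift, GrpObj.comp_inv, ← Category.assoc, ← CoactBr.pt_comp]
      rw [show (pair x g).comp iA = g from AlgHom.ext fun r => by simp [iA],
        show (pair x g).comp iR = x from AlgHom.ext fun r => by simp [iR], hg, hx]
      simp only [Category.assoc, IsIso.inv_hom_id, Category.comp_id, inv_inv]
      rw [← comp_lift, lift_fst_snd, Category.comp_id]
    have hθκ : θ ≫ κ = 𝟙 _ := by
      obtain ⟨q, hq⟩ := AffAct15.exists_pt (θ ≫ κ)
      have h : pt q ≫ θ = pt (AlgHom.id k _) ≫ θ := by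
        rw [hq, Category.assoc, hκ, Category.comp_id, AffAct15.pt_id, Category.id_comp]
      simp only [θ, comp_lift, GrpObj.comp_inv, ← Category.assoc, ← CoactBr.pt_comp] at h
      have h1 := congrArg (· ≫ snd G X) h
      have h2 := congrArg (· ≫ fst G X) h
      simp only [lift_snd, lift_fst, inv_inj, cancel_mono] at h1 h2
      rw [← hq, hdist q (AlgHom.id k _) (CoactBr.pt_injective h1) (CoactBr.pt_injective h2), AffAct15.pt_id]
    haveI : IsIso θ := ⟨κ, hθκ, hκ⟩
    have hact : θ ≫ a.act = pt δ' ≫ j := by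
      have h := hj (R ⊗[k] A) iR iA
      rwa [show pair iR iA = AlgHom.id k _ from Algebra.TensorProduct.ext' fun s t => by simp [iR, iA],
        AlgHom.id_comp] at h
    exact sq.of_iso (asIso θ) (asIso j) (asIso j) (asIso jY) (by simpa using hact.symm) (by simp [θ])
      (by simpa using hψφ) (by simpa using hψφ)

include eG hG in
/-- A free action with an affine geometric quotient is a pseudo-torsor with flat quotient map. -/
theorem torsor_of_free [LocallyOfFiniteType X.hom] (a : AlgGrp.Action G X) (φ : X ⟶ Y) [IsAffineHom φ.left]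
    (hinv : GIT.IsInvariant a φ) (hs : ∀ U : Y.left.Opens, Function.Injective (φ.left.app U) ∧
      Set.range (φ.left.app U) = {f | GIT.IsInvSection a φ U f})
    (hfree : ∀ (T : Over (Spec (CommRingCat.of k))) (g : T ⟶ G) (y : T ⟶ X), lift g y ≫ a.act = y → g = 1) :
    Flat φ.left ∧ IsPullback a.act (snd G X) φ φ := by
  have piece : ∀ V : Y.left.affineOpens, Flat (φ.left ∣_ V.1) ∧
      ∃ (Xo Yo : Over (Spec (CommRingCat.of k))) (jo : Xo ⟶ X) (vj : Yo ⟶ Y) (φo : Xo ⟶ Yo) (ao : AlgGrp.Action G Xo),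
        IsOpenImmersion jo.left ∧ Set.range jo.left.base = φ.left ⁻¹ᵁ V.1 ∧ IsPullback jo φo φ vj ∧
        ao.act ≫ jo = (G ◁ jo) ≫ a.act ∧ IsPullback ao.act (snd G Xo) φo φo := by
    rintro ⟨V, hV⟩
    set O := φ.left ⁻¹ᵁ V
    let Yo : Over (Spec (CommRingCat.of k)) := Over.mk (V.ι ≫ Y.hom)
    let vj : Yo ⟶ Y := Over.homMk V.ι rfl
    let Xo : Over (Spec (CommRingCat.of k)) := Over.mk (O.ι ≫ X.hom)
    let jo : Xo ⟶ X := Over.homMk O.ι rfl
    haveI : IsOpenImmersion jo.left := inferInstanceAs (IsOpenImmersion O.ι)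
    let φo : Xo ⟶ Yo := Over.homMk (φ.left ∣_ V) (by
      show (φ.left ∣_ V) ≫ V.ι ≫ Y.hom = O.ι ≫ X.hom
      rw [morphismRestrict_ι_assoc, Over.w])
    have sq : IsPullback jo φo φ vj :=
      IsPullback.of_map (Over.forget _) (Over.OverMorphism.ext (morphismRestrict_ι _ _).symm)
        (isPullback_morphismRestrict φ.left V).flip
    obtain ⟨ao, hao, hio⟩ := GITQuot.exists_pullback_action hinv sq
    haveI : IsAffine Xo.left := hV.preimage φ.left
    haveI : IsAffine Yo.left := hV
    haveI : LocallyOfFiniteType Xo.hom := inferInstanceAs (LocallyOfFiniteType (O.ι ≫ X.hom))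
    have key : ∀ t : Γ(Y.left, V), φo.left.appTop (resT V t) = resT O (φ.left.app V t) := fun t => by
      rw [Scheme.Hom.app_eq_appLE]
      have : φo.left = φ.left.resLE V O le_rfl := (Scheme.Hom.resLE_eq_morphismRestrict _).symm
      rw [this]
      exact GITQuot.resLE_resT φ.left le_rfl t
    have hi1 : Function.Injective φo.left.appTop := fun t t' h => by
      obtain ⟨t, rfl⟩ := (resT_bijective V).2 t
      obtain ⟨t', rfl⟩ := (resT_bijective V).2 t'
      rw [key, key] at h
      rw [(hs V).1 ((resT_bijective O).1 h)]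
    have hr1 : Set.range φo.left.appTop = {f : Γ(Xo.left, ⊤) | ao.act.left.appTop f = (snd G Xo).left.appTop f} := by
      refine Set.Subset.antisymm ?_ fun f hf => ?_
      · rintro _ ⟨t, rfl⟩
        show ao.act.left.appTop (φo.left.appTop t) = (snd G Xo).left.appTop (φo.left.appTop t)
        rw [← CommRingCat.comp_apply, ← CommRingCat.comp_apply, ← Scheme.Hom.comp_appTop, ← Scheme.Hom.comp_appTop,
          ← Over.comp_left, ← Over.comp_left, show ao.act ≫ φo = snd G Xo ≫ φo from hio]
      · obtain ⟨f₀, rfl⟩ := (resT_bijective O).2 f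
        have h1 : GIT.IsInvSection a φ V f₀ := by
          refine (NRQ21.isInvSection_iff jo hao O (by show O ≤ O.ι.opensRange; rw [O.opensRange_ι]) ⊤
            O.ι_preimage_self.symm f₀).1 ?_
          rw [AffAct15.appLE_top_eq_iff _ _ (by simp)]
          exact hf
        obtain ⟨t, ht⟩ := (hs V).2.ge h1
        exact ⟨resT V t, by rw [key, ht]⟩
    obtain ⟨hfl, hpb⟩ := torsor_affine eG hG ao φo hio hi1 hr1 fun T g y h => hfree T g (y ≫ jo) (by
      conv_rhs => rw [← h]
      rw [Category.assoc, hao, lift_whiskerLeft_assoc])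
    exact ⟨hfl, Xo, Yo, jo, vj, φo, ao, inferInstance, O.range_ι, sq, hao, hpb⟩
  refine ⟨(IsZariskiLocalAtTarget.iff_of_iSup_eq_top (P := @Flat) _ (iSup_affineOpens_eq_top Y.left)).2
    fun V => (piece V).1, IsPullback.of_map (Over.forget _) hinv ?_⟩
  show IsPullback a.act.left (snd G X).left φ.left φ.left
  let sP := IsPullback.of_hasPullback φ.left φ.left
  let c : (G ⊗ X).left ⟶ pullback φ.left φ.left := sP.lift a.act.left (snd G X).left (congrArg CommaMorphism.left hinv)
  have hc1 : c ≫ pullback.fst _ _ = a.act.left := sP.lift_fst _ _ _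
  have hc2 : c ≫ pullback.snd _ _ = (snd G X).left := sP.lift_snd _ _ _
  suffices IsIso c from IsPullback.of_iso_pullback ⟨congrArg CommaMorphism.left hinv⟩ (asIso c) hc1 hc2
  choose Xo Yo jo vj φo ao hjo hrange' sq hao hpb using fun V => (piece V).2
  let 𝒰 : Y.left.affineOpens → (pullback φ.left φ.left).Opens := fun V =>
    (pullback.snd φ.left φ.left) ⁻¹ᵁ (φ.left ⁻¹ᵁ V.1)
  have h𝒰 : iSup 𝒰 = ⊤ := by
    refine eq_top_iff.2 fun z _ => ?_
    obtain ⟨V, hV, hzV, -⟩ := exists_isAffineOpen_mem_and_subset (U := (⊤ : Y.left.Opens))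
      (x := φ.left (pullback.snd φ.left φ.left z)) trivial
    exact Opens.mem_iSup.2 ⟨⟨V, hV⟩, hzV⟩
  refine (IsZariskiLocalAtTarget.iff_of_iSup_eq_top (P := MorphismProperty.isomorphisms Scheme.{u}) 𝒰 h𝒰).2 fun V => ?_
  haveI := hjo V
  have sqP := IsPullback.of_hasPullback (pullback.snd φ.left φ.left) (jo V).left
  have sqG : IsPullback (G ◁ jo V).left (snd G (Xo V)).left (snd G X).left (jo V).left :=
    GITQuot.isPullback_whiskerLeft (jo V) G
  let cV := sqP.lift ((G ◁ jo V).left ≫ c) (snd G (Xo V)).left (by rw [Category.assoc, hc2, sqG.w])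
  have sqc : IsPullback (G ◁ jo V).left cV c (pullback.fst _ _) :=
    IsPullback.of_bot (by rw [sqP.lift_snd, hc2]; exact sqG) (sqP.lift_fst _ _ _).symm sqP
  have big : IsPullback ((G ◁ jo V).left ≫ a.act.left) (snd G (Xo V)).left φ.left ((jo V).left ≫ φ.left) := by
    have h1 : IsPullback (ao V).act.left (snd G (Xo V)).left (φo V).left (φo V).left := (hpb V).map (Over.forget _)
    have h2 := h1.paste_horiz ((sq V).map (Over.forget _))
    change IsPullback ((ao V).act.left ≫ (jo V).left) (snd G (Xo V)).left φ.left ((φo V).left ≫ (vj V).left) at h2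
    have e : (φo V).left ≫ (vj V).left = (jo V).left ≫ φ.left := congrArg CommaMorphism.left (sq V).w.symm
    rwa [← Over.comp_left, hao V, Over.comp_left, e] at h2
  have sqB := sqP.paste_horiz sP
  haveI : IsIso cV := by
    have e : cV = (big.isoIsPullback _ _ sqB).hom := by
      refine sqB.hom_ext ?_ ?_
      · rw [IsPullback.isoIsPullback_hom_fst, ← Category.assoc, sqP.lift_fst, Category.assoc, hc1]
      · rw [IsPullback.isoIsPullback_hom_snd, sqP.lift_snd]
    rw [e]
    infer_instance
  have hr : 𝒰 V = (pullback.fst (pullback.snd φ.left φ.left) (jo V).left).opensRange := by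
    refine Opens.ext ?_
    show _ = Set.range _
    rw [IsOpenImmersion.range_pullbackFst]
    show _ = (pullback.snd φ.left φ.left).base ⁻¹' Set.range (jo V).left.base
    rw [hrange' V]
    rfl
  rw [hr]
  let f' := pullback.fst (pullback.snd φ.left φ.left) (jo V).left
  let e := f'.isoOpensRange
  have hres := isPullback_morphismRestrict c f'.opensRange
  have hpb' : IsPullback (cV ≫ e.hom) (G ◁ jo V).left f'.opensRange.ι c :=
    sqc.flip.of_iso (Iso.refl _) e (Iso.refl _) (Iso.refl _) (by simp) (by simp) (by simp [e, f']) (by simp)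
  show IsIso (c ∣_ f'.opensRange)
  rw [← hpb'.isoIsPullback_inv_fst _ _ hres]
  infer_instance

end Groth.Agent.FreeTors15
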